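import Mathlib
import Cfsg.Agent.OddHalf.D4.SpFourFr
import Cfsg.Agent.Schreier.Basic

/-!
# ODD D4: descent of a tightly embedded component to the centralizer of a subgroup of `K` (helper63)

`K` is tight in `G`, `Q` a Sylow 2-subgroup of `C(K)`, `Y ≤ G`, `K₁ ≤ Y`. `DesI`: the 2-elements of `N_Y(K)` centralising
`K₁` are in `C(K)`, and `N_Y(K) ≤ N(K₁)`. Then `Q` is a Sylow 2-subgroup of `C_Y(K₁)`, and `K₁` is tight in `Y`.
-/

set_option autoImplicit false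
set_option linter.unusedSectionVars false

namespace Cfsg.Agent.OddHalf.D4.SpC.Desc

open Subgroup Cfsg.Agent.OddHalf.D4 Cfsg.Agent.OddHalf.D4.Basic
open Cfsg.Agent.OddHalf.D4.CommConj (cj mem_cj mem_cj_mul cj_eq_of_mem_normalizer Tight)
open Cfsg.Agent.OddHalf.D4.SpFourFr (Env)

universe u

variable {G : Type u} [Group G]

/-- The hypotheses. -/
structure DesI (K Q Y : Subgroup G) (K₁ : Subgroup ↥Y) : Prop where
  tight : TightAt K
  syl : IsSyl Q (centralizer (K : Set G))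
  ne : ∃ t ∈ Q, orderOf t = 2
  QY : Q ≤ Y
  K1 : ∀ y ∈ K₁, (y : G) ∈ K
  two : ∀ y : ↥Y, (y : G) ∈ normalizer (K : Set G) → (∃ k : ℕ, y ^ 2 ^ k = 1) → y ∈ centralizer (K₁ : Set ↥Y) →
    (y : G) ∈ centralizer (K : Set G)
  nor : ∀ y : ↥Y, (y : G) ∈ normalizer (K : Set G) → y ∈ normalizer (K₁ : Set ↥Y)

namespace DesI

variable {K Q Y : Subgroup G} {K₁ : Subgroup ↥Y} (D : DesI K Q Y K₁)

include D

theorem QC : Q.subgroupOf Y ≤ centralizer (K₁ : Set ↥Y) := by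
  intro q hq
  rw [mem_subgroupOf] at hq
  rw [mem_centralizer_iff]
  intro k hk
  exact Subtype.ext (mem_centralizer_iff.1 (D.syl.le hq) _ (D.K1 k hk))

/-- `Q` is a Sylow 2-subgroup of `C_Y(K₁)` -/
theorem isSyl [Finite G] : IsSyl (Q.subgroupOf Y) (centralizer (K₁ : Set ↥Y)) := by
  have : Fact (Nat.Prime 2) := ⟨Nat.prime_two⟩
  refine ⟨D.syl.two.comap_subtype, D.QC, ?_⟩
  intro P hP hQP hPC
  by_contra hne
  have hnil : Group.IsNilpotent P := hP.isNilpotent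
  have h1 : (Q.subgroupOf Y).subgroupOf P < ⊤ := by
    rw [lt_top_iff_ne_top]
    intro e
    rw [Subgroup.subgroupOf_eq_top] at e
    exact hne e
  have h2 := Group.normalizerCondition_of_isNilpotent _ h1
  obtain ⟨x, hx, hx'⟩ := SetLike.exists_of_lt h2
  apply hx'
  rw [mem_subgroupOf, mem_subgroupOf]
  -- `x` normalises `Q`
  have hxn : ∀ q ∈ Q, ((x : ↥Y) : G) * q * ((x : ↥Y) : G)⁻¹ ∈ Q := by
    intro q hq
    have hqP : (⟨q, D.QY hq⟩ : ↥Y) ∈ P := hQP (mem_subgroupOf.2 hq)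
    have h3 := (mem_normalizer_iff.1 hx ⟨⟨q, D.QY hq⟩, hqP⟩).1 (mem_subgroupOf.2 (mem_subgroupOf.2 hq))
    rw [mem_subgroupOf, mem_subgroupOf] at h3
    exact h3
  obtain ⟨t, ht, ht2⟩ := D.ne
  have hxN : ((x : ↥Y) : G) ∈ normalizer (K : Set G) :=
    D.tight.tight _ t (D.syl.le ht) ht2 (D.syl.le (hxn t ht))
  obtain ⟨k, hk⟩ := hP x
  have hxC := D.two x hxN ⟨k, congrArg Subtype.val hk⟩ (hPC x.2)
  -- `⟨Q, x⟩` is a 2-subgroup of `C(K)`
  have hxQ : ((x : ↥Y) : G) ∈ normalizer (Q : Set G) := by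
    have hpow : ∀ m : ℕ, ∀ q ∈ Q, (((x : ↥Y) : G) ^ m) * q * (((x : ↥Y) : G) ^ m)⁻¹ ∈ Q := by
      intro m
      induction m with
      | zero => intro q hq; simpa using hq
      | succ m ih =>
        intro q hq
        have e : ((x : ↥Y) : G) ^ (m + 1) * q * (((x : ↥Y) : G) ^ (m + 1))⁻¹ =
            ((x : ↥Y) : G) * (((x : ↥Y) : G) ^ m * q * (((x : ↥Y) : G) ^ m)⁻¹) * ((x : ↥Y) : G)⁻¹ := by
          rw [pow_succ']; group
        rw [e]
        exact hxn _ (ih q hq)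
    rw [mem_normalizer_iff]
    intro q
    refine ⟨fun hq => hxn q hq, fun hq => ?_⟩
    have h5 := hpow (orderOf ((x : ↥Y) : G) - 1) _ hq
    have h6 : ((x : ↥Y) : G) ^ (orderOf ((x : ↥Y) : G) - 1) = ((x : ↥Y) : G)⁻¹ := by
      rw [eq_inv_iff_mul_eq_one, ← pow_succ, Nat.sub_add_cancel (orderOf_pos _), pow_orderOf_eq_one]
    rw [h6] at h5
    have e : ((x : ↥Y) : G)⁻¹ * (((x : ↥Y) : G) * q * ((x : ↥Y) : G)⁻¹) * (((x : ↥Y) : G)⁻¹)⁻¹ = q := by group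
    rwa [e] at h5
  have hz2 : IsPGroup 2 ↥(zpowers ((x : ↥Y) : G)) := by
    rw [IsPGroup.iff_card]
    rw [Nat.card_zpowers]
    have h7 : ((x : ↥Y) : G) ^ 2 ^ k = 1 := by
      have := congrArg (fun z : ↥P => ((z : ↥Y) : G)) hk
      simpa using this
    obtain ⟨m, -, hm⟩ := (Nat.dvd_prime_pow Nat.prime_two).1 (orderOf_dvd_of_pow_eq_one h7)
    exact ⟨m, hm⟩
  have hsup : IsPGroup 2 ↥(zpowers ((x : ↥Y) : G) ⊔ Q) :=
    hz2.to_sup_of_normal_right' D.syl.two (zpowers_le.2 hxQ)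
  exact D.syl.max _ hsup le_sup_right (sup_le (zpowers_le.2 hxC) D.syl.le) (mem_sup_left (mem_zpowers _))

/-- `K₁` is tight in `Y` -/
theorem tight1 [Finite G] : TightAt K₁ := by
  refine ⟨?_, ?_, ?_⟩
  · exact Subgroup.centralizer_le_normalizer _
  · intro m hm c hc
    rw [mem_centralizer_iff] at hc ⊢
    intro k hk
    have h1 : m⁻¹ * k * m ∈ K₁ := (mem_normalizer_iff''.1 hm k).1 hk
    have h2 := hc _ h1
    calc k * (m * c * m⁻¹) = m * (m⁻¹ * k * m * c) * m⁻¹ := by group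
      _ = _ := by rw [h2]; group
  · intro g x hx hx2 hgx
    have h2 : ∀ z : ↥Y, z ∈ centralizer (K₁ : Set ↥Y) → orderOf z = 2 →
        ∃ c ∈ centralizer (K₁ : Set ↥Y), ((c * z * c⁻¹ : ↥Y) : G) ∈ Q := by
      intro z hz hz2
      have hP : IsPGroup 2 ↥(zpowers z) := by
        rw [IsPGroup.iff_card, Nat.card_zpowers, hz2]; exact ⟨1, rfl⟩
      obtain ⟨c, hc, hcz⟩ := D.isSyl.conj_into hP (zpowers_le.2 hz)
      exact ⟨c, hc, mem_subgroupOf.1 (hcz z (mem_zpowers z))⟩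
    obtain ⟨c1, hc1, h3⟩ := h2 x hx hx2
    obtain ⟨c2, hc2, h4⟩ := h2 (g * x * g⁻¹) hgx (by rw [orderOf_conj]; exact hx2)
    have h5 : ((c2 * g * c1⁻¹ : ↥Y) : G) ∈ normalizer (K : Set G) := by
      apply D.tight.tight _ ((c1 * x * c1⁻¹ : ↥Y) : G) (D.syl.le h3)
      · rw [Subgroup.orderOf_coe, orderOf_conj, hx2]
      · have e : ((c2 * g * c1⁻¹ : ↥Y) : G) * ((c1 * x * c1⁻¹ : ↥Y) : G) * ((c2 * g * c1⁻¹ : ↥Y) : G)⁻¹ =
            ((c2 * (g * x * g⁻¹) * c2⁻¹ : ↥Y) : G) := by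
          push_cast; group
        rw [e]
        exact D.syl.le h4
    have h6 := D.nor _ h5
    have hCN : centralizer (K₁ : Set ↥Y) ≤ normalizer (K₁ : Set ↥Y) := Subgroup.centralizer_le_normalizer _
    have e : g = c2⁻¹ * (c2 * g * c1⁻¹) * c1 := by group
    rw [e]
    exact mul_mem (mul_mem (inv_mem (hCN hc2)) h6) (hCN hc1)

/-- `Env K₁` in `Y` -/
theorem env [Finite G] [hs : IsSimpleGroup ↥K₁] (hsch : Cfsg.Agent.Schreier.Basic.Sch ↥K₁)
    (hab : ∀ x ∈ Q, ∀ y ∈ Q, x * y = y * x) (hna : ∃ P ≤ K₁, IsPGroup 2 ↥P ∧ ∃ a ∈ P, ∃ b ∈ P, a * b ≠ b * a)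
    (h4 : ∃ a ∈ Q, ∃ b ∈ Q, orderOf a = 2 ∧ orderOf b = 2 ∧ a ≠ b) : Env K₁ := by
  have hcen : ∀ x ∈ K₁, x ∈ centralizer (K₁ : Set ↥Y) → x = 1 := by
    intro x hx hxc
    have h1 : (⟨x, hx⟩ : ↥K₁) ∈ center ↥K₁ := by
      rw [mem_center_iff]
      intro y
      exact Subtype.ext (mem_centralizer_iff.mp hxc y y.2)
    rcases (inferInstance : (center ↥K₁).Normal).eq_bot_or_eq_top with h2 | h2
    · rw [h2, mem_bot] at h1
      exact congrArg Subtype.val h1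
    · exfalso
      obtain ⟨P, hPK, -, a, ha, b, hb, hab⟩ := hna
      apply hab
      have h3 : (⟨b, hPK hb⟩ : ↥K₁) ∈ center ↥K₁ := by rw [h2]; exact mem_top _
      exact congrArg Subtype.val (mem_center_iff.mp h3 ⟨a, hPK ha⟩)
  refine ⟨D.tight1, hcen, ?_, ?_, ?_, ?_, ?_⟩
  · intro N hN hn
    have h1 : (N.subgroupOf K₁).Normal := by
      refine ⟨?_⟩
      intro n hn' g
      rw [mem_subgroupOf] at hn' ⊢
      exact hn g g.2 n hn'
    rcases h1.eq_bot_or_eq_top with h2 | h2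
    · left
      rw [eq_bot_iff_forall]
      intro x hx
      have h3 : (⟨x, hN hx⟩ : ↥K₁) ∈ N.subgroupOf K₁ := mem_subgroupOf.mpr hx
      rw [h2, mem_bot] at h3
      exact congrArg Subtype.val h3
    · right
      apply le_antisymm hN
      intro x hx
      have h3 : (⟨x, hx⟩ : ↥K₁) ∈ N.subgroupOf K₁ := by rw [h2]; exact mem_top _
      exact mem_subgroupOf.mp h3
  · intro h
    obtain ⟨P, hPK, -, a, ha, b, hb, hab⟩ := hna
    have h1 := hPK ha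
    rw [h, mem_bot] at h1
    apply hab
    rw [h1, one_mul, mul_one]
  · intro g hg hcon
    obtain ⟨P, hPK, hP2, a, ha, b, hb, hab'⟩ := hna
    -- `g P g⁻¹ ≤ C(K₁)`
    have h1 : cj g P ≤ centralizer (K₁ : Set ↥Y) := by
      intro x hx
      rw [mem_cj] at hx
      rw [mem_centralizer_iff]
      intro k hk
      have h2 := hcon k hk _ (hPK hx)
      have e : g * (g⁻¹ * x * g) * g⁻¹ = x := by group
      rw [e] at h2
      exact h2
    obtain ⟨c, hc, hcP⟩ := D.isSyl.conj_into (Q := cj g P) (hP2.map _) h1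
    have key : ∀ x ∈ P, ∀ y ∈ P, x * y = y * x := by
      intro x hx y hy
      have h2 := mem_subgroupOf.1 (hcP _ (mem_cj_mul (g := g) hx))
      have h3 := mem_subgroupOf.1 (hcP _ (mem_cj_mul (g := g) hy))
      have h4 := hab _ h2 _ h3
      have h5 : (c * (g * x * g⁻¹) * c⁻¹) * (c * (g * y * g⁻¹) * c⁻¹) =
          (c * (g * y * g⁻¹) * c⁻¹) * (c * (g * x * g⁻¹) * c⁻¹) := Subtype.ext h4
      calc x * y = g⁻¹ * c⁻¹ * ((c * (g * x * g⁻¹) * c⁻¹) * (c * (g * y * g⁻¹) * c⁻¹)) * c * g := by group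
        _ = y * x := by rw [h5]; group
    exact hab' (key a ha b hb)
  · intro P hP hPP
    let f : ↥P →* MulAut ↥K₁ := K₁.normalizerMonoidHom.comp (inclusion hP)
    have h1 : ⁅f.range, f.range⁆ = f.range := by
      rw [MonoidHom.range_eq_map, ← Subgroup.map_commutator]
      congr 1
      apply Subgroup.map_injective P.subtype_injective
      rw [Subgroup.map_commutator, ← MonoidHom.range_eq_map, Subgroup.range_subtype, hPP]
    have h2 := hsch f.range h1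
    intro p hp
    obtain ⟨k, hk⟩ := h2 ⟨⟨p, hp⟩, rfl⟩
    have h3 : ∀ x ∈ K₁, p * x * p⁻¹ = (k : ↥Y) * x * (k : ↥Y)⁻¹ := by
      intro x hx
      have h4 := congrArg (fun f : MulAut ↥K₁ => ((f ⟨x, hx⟩ : ↥K₁) : ↥Y)) hk
      exact h4.symm
    have h4 : (k : ↥Y)⁻¹ * p ∈ centralizer (K₁ : Set ↥Y) := by
      rw [mem_centralizer_iff]
      intro x hx
      have h5 := h3 x hx
      calc x * ((k : ↥Y)⁻¹ * p) = (k : ↥Y)⁻¹ * ((k : ↥Y) * x * (k : ↥Y)⁻¹) * p := by group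
        _ = (k : ↥Y)⁻¹ * (p * x * p⁻¹) * p := by rw [h5]
        _ = _ := by group
    have e : p = (k : ↥Y) * ((k : ↥Y)⁻¹ * p) := by group
    rw [e]
    exact mul_mem_sup k.2 h4
  · obtain ⟨a, ha, b, hb, ha2, hb2, hne⟩ := h4
    refine ⟨⟨a, D.QY ha⟩, ⟨b, D.QY hb⟩, D.QC (mem_subgroupOf.2 ha), D.QC (mem_subgroupOf.2 hb), ?_, ?_,
      Subtype.ext (hab a ha b hb), fun h => hne (congrArg Subtype.val h)⟩
    · rw [← ha2]; exact (Subgroup.orderOf_coe _).symm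
    · rw [← hb2]; exact (Subgroup.orderOf_coe _).symm

end DesI

end Cfsg.Agent.OddHalf.D4.SpC.Desc
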