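import Mathlib
import Cfsg.Agent.OddHalf.D4.SpN.Kf
import Cfsg.Agent.OddHalf.SpN.OutTri

/-!
# ODD D4, `K = Sp_2n(q)`, `n ≥ 3`: `Sp₄(F) → Sp_2n(F)` and the centralizer of `A₀` (helper63)

* `emb h2 : Sy 2 F →* Sy n F` : `Sp₄` on the coordinates `±1, ±2`;
* `cent_A0` : an element commuting with `A₀` is `emb A * sh μ`.
-/

set_option autoImplicit false
set_option linter.unusedSectionVars false

namespace Cfsg.Agent.OddHalf.D4.SpC.Emb

open Cfsg Cfsg.Agent.ClassicalGeometry.SympBasic Cfsg.Agent.ClassicalGeometry.SympAutSemi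
open Cfsg.Agent.OddHalf.SpN Cfsg.Agent.OddHalf.SpN.Out

variable {n : ℕ} {F : Type*} [Field F]

/-- the absolute value of a signed index -/
def vl (k : Ix n) : ℕ := k.elim Fin.val Fin.val

theorem vl_neg (k : Ix n) : vl (neg k) = vl k := by rcases k with k | k <;> rfl

/-- the inclusion of the signed indices -/
def cc (h2 : 2 ≤ n) (k : Ix 2) : Ix n := Sum.map (Fin.castLE h2) (Fin.castLE h2) k

/-- and back -/
def bk (k : Ix n) (h : vl k < 2) : Ix 2 :=
  match k, h with
  | Sum.inl i, h => Sum.inl ⟨i.1, h⟩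
  | Sum.inr i, h => Sum.inr ⟨i.1, h⟩

theorem vl_cc (h2 : 2 ≤ n) (k : Ix 2) : vl (cc h2 k) < 2 := by
  rcases k with k | k <;> exact k.2

theorem bk_cc (h2 : 2 ≤ n) (k : Ix 2) (h : vl (cc h2 k) < 2) : bk (cc h2 k) h = k := by
  rcases k with k | k <;> rfl

theorem cc_bk (h2 : 2 ≤ n) (k : Ix n) (h : vl k < 2) : cc h2 (bk k h) = k := by
  rcases k with k | k <;> rfl

theorem neg_cc (h2 : 2 ≤ n) (k : Ix 2) : neg (cc h2 k) = cc h2 (neg k) := by
  rcases k with k | k <;> rfl

theorem cc_inj (h2 : 2 ≤ n) {k l : Ix 2} (h : cc h2 k = cc h2 l) : k = l := by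
  have h1 : bk (cc h2 k) (vl_cc h2 k) = bk (cc h2 l) (vl_cc h2 l) := by congr 1
  rwa [bk_cc, bk_cc] at h1

/-- replace the coordinates `±1, ±2` -/
def glue (f : Ix 2 → F) (v : Ix n → F) (k : Ix n) : F := if h : vl k < 2 then f (bk k h) else v k

theorem glue_cc (h2 : 2 ≤ n) (f : Ix 2 → F) (v : Ix n → F) (k : Ix 2) : glue f v (cc h2 k) = f k := by
  rw [glue, dif_pos (vl_cc h2 k), bk_cc]

theorem glue_ge (f : Ix 2 → F) (v : Ix n → F) {k : Ix n} (h : 2 ≤ vl k) : glue f v k = v k := by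
  rw [glue, dif_neg (by omega)]

/-- the symplectic form -/
theorem form_split (h2 : 2 ≤ n) (u v : Ix n → F) : sympForm n F u v =
    sympForm 2 F (u ∘ cc h2) (v ∘ cc h2) +
      ∑ i : Fin n, if i.val < 2 then 0 else (u (Sum.inr i) * v (Sum.inl i) - u (Sum.inl i) * v (Sum.inr i)) := by
  rw [sympForm_eq_sum, sympForm_eq_sum, Fin.sum_univ_two]
  have h3 : ∀ i : Fin n, (u (Sum.inr i) * v (Sum.inl i) - u (Sum.inl i) * v (Sum.inr i)) =
      (if i.val < 2 then (u (Sum.inr i) * v (Sum.inl i) - u (Sum.inl i) * v (Sum.inr i)) else 0) +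
      (if i.val < 2 then 0 else (u (Sum.inr i) * v (Sum.inl i) - u (Sum.inl i) * v (Sum.inr i))) := by
    intro i; split_ifs <;> ring
  rw [Finset.sum_congr rfl fun i _ => h3 i, Finset.sum_add_distrib]
  congr 1
  rw [Finset.sum_eq_add (Fin.castLE h2 0) (Fin.castLE h2 1)]
  · rw [if_pos (by show (0 : ℕ) < 2; omega), if_pos (by show (1 : ℕ) < 2; omega)]
    rfl
  · intro h
    have := congrArg Fin.val h
    exact absurd this (by show (0 : ℕ) ≠ 1; omega)
  · rintro c - ⟨hc0, hc1⟩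
    rw [if_neg]
    intro h
    have h4 : c.val = 0 ∨ c.val = 1 := by omega
    rcases h4 with h4 | h4
    · exact hc0 (Fin.ext h4)
    · exact hc1 (Fin.ext h4)
  · intro h; exact absurd (Finset.mem_univ _) h
  · intro h; exact absurd (Finset.mem_univ _) h

/-- the permutation -/
def pE (h2 : 2 ≤ n) (A : Sy 2 F) : Equiv.Perm (Ix n → F) where
  toFun v := glue (rho 2 F A (v ∘ cc h2)) v
  invFun v := glue (rho 2 F A⁻¹ (v ∘ cc h2)) v
  left_inv v := by
    funext k
    show glue (rho 2 F A⁻¹ ((glue (rho 2 F A (v ∘ cc h2)) v) ∘ cc h2)) (glue (rho 2 F A (v ∘ cc h2)) v) k = v k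
    by_cases h : vl k < 2
    · rw [← cc_bk h2 k h, glue_cc]
      have e : (glue (rho 2 F A (v ∘ cc h2)) v) ∘ cc h2 = rho 2 F A (v ∘ cc h2) := by
        funext l; exact glue_cc h2 _ _ l
      rw [e, map_inv, perm_inv_apply_self]
      rfl
    · rw [glue_ge _ _ (by omega), glue_ge _ _ (by omega)]
  right_inv v := by
    funext k
    show glue (rho 2 F A ((glue (rho 2 F A⁻¹ (v ∘ cc h2)) v) ∘ cc h2)) (glue (rho 2 F A⁻¹ (v ∘ cc h2)) v) k = v k
    by_cases h : vl k < 2
    · rw [← cc_bk h2 k h, glue_cc]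
      have e : (glue (rho 2 F A⁻¹ (v ∘ cc h2)) v) ∘ cc h2 = rho 2 F A⁻¹ (v ∘ cc h2) := by
        funext l; exact glue_cc h2 _ _ l
      rw [e, map_inv, perm_apply_inv_self]
      rfl
    · rw [glue_ge _ _ (by omega), glue_ge _ _ (by omega)]

theorem exists_emb (h2 : 2 ≤ n) (A : Sy 2 F) :
    ∃ B : Sy n F, ∀ v, rho n F B v = glue (rho 2 F A (v ∘ cc h2)) v := by
  obtain ⟨B, hB⟩ := exists_rho_eq (m := n) (F := F) (pE h2 A) (fun u v => by
      funext k
      show glue (rho 2 F A ((u + v) ∘ cc h2)) (u + v) k = glue _ u k + glue _ v k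
      by_cases h : vl k < 2
      · rw [← cc_bk h2 k h, glue_cc, glue_cc, glue_cc]
        have e : (u + v) ∘ cc h2 = u ∘ cc h2 + v ∘ cc h2 := rfl
        rw [e, (isSemi_rho A).1]; rfl
      · rw [glue_ge _ _ (by omega), glue_ge _ _ (by omega), glue_ge _ _ (by omega)]; rfl)
    (fun a v => by
      funext k
      show glue (rho 2 F A ((a • v) ∘ cc h2)) (a • v) k = a * glue _ v k
      by_cases h : vl k < 2
      · rw [← cc_bk h2 k h, glue_cc, glue_cc]
        have e : (a • v) ∘ cc h2 = a • (v ∘ cc h2) := rfl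
        rw [e, (isSemi_rho A).2.1]; rfl
      · rw [glue_ge _ _ (by omega), glue_ge _ _ (by omega)]; rfl)
    (fun u v => by
      rw [form_split h2, form_split h2 u v]
      congr 1
      · have e : ∀ w : Ix n → F, (pE h2 A w) ∘ cc h2 = rho 2 F A (w ∘ cc h2) := by
          intro w; funext l; exact glue_cc h2 _ _ l
        rw [e, e, sympForm_rho]
      · refine Finset.sum_congr rfl fun i _ => ?_
        split_ifs with h
        · rfl
        · have e : ∀ (w : Ix n → F) (k : Ix n), 2 ≤ vl k → pE h2 A w k = w k := by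
            intro w k hk; exact glue_ge _ _ hk
          rw [e _ _ (by show 2 ≤ i.val; omega), e _ _ (by show 2 ≤ i.val; omega), e _ _ (by show 2 ≤ i.val; omega),
            e _ _ (by show 2 ≤ i.val; omega)])
  exact ⟨B, fun v => by rw [hB]; rfl⟩

/-- `Sp₄(F) → Sp_2n(F)` -/
noncomputable def emb (h2 : 2 ≤ n) : Sy 2 F →* Sy n F where
  toFun A := Classical.choose (exists_emb h2 A)
  map_one' := by
    apply rho_injective
    ext v k
    rw [Classical.choose_spec (exists_emb h2 (1 : Sy 2 F)), map_one, map_one]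
    by_cases h : vl k < 2
    · rw [← cc_bk h2 k h, glue_cc]; rfl
    · rw [glue_ge _ _ (by omega)]; rfl
  map_mul' A B := by
    apply rho_injective
    ext v k
    have hm : ∀ v, rho n F (Classical.choose (exists_emb h2 A) * Classical.choose (exists_emb h2 B)) v =
        rho n F (Classical.choose (exists_emb h2 A)) (rho n F (Classical.choose (exists_emb h2 B)) v) := by
      intro v; rw [map_mul]; rfl
    rw [hm, Classical.choose_spec (exists_emb h2 (A * B)),
      Classical.choose_spec (exists_emb h2 A), Classical.choose_spec (exists_emb h2 B)]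
    by_cases h : vl k < 2
    · rw [← cc_bk h2 k h, glue_cc, glue_cc]
      have e : (glue (rho 2 F B (v ∘ cc h2)) v) ∘ cc h2 = rho 2 F B (v ∘ cc h2) := by
        funext l; exact glue_cc h2 _ _ l
      rw [e, map_mul, Equiv.Perm.mul_apply]
    · rw [glue_ge _ _ (by omega), glue_ge _ _ (by omega), glue_ge _ _ (by omega)]

theorem rho_emb (h2 : 2 ≤ n) (A : Sy 2 F) (v : Ix n → F) :
    rho n F (emb h2 A) v = glue (rho 2 F A (v ∘ cc h2)) v := Classical.choose_spec (exists_emb h2 A) v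

theorem emb_injective (h2 : 2 ≤ n) : Function.Injective (emb h2 : Sy 2 F →* Sy n F) := by
  intro A B h
  apply rho_injective
  ext w k
  have h1 := congrArg (fun C => rho n F C (glue w 0) (cc h2 k)) h
  simp only [rho_emb, glue_cc] at h1
  have e : (glue w (0 : Ix n → F)) ∘ cc h2 = w := by funext l; exact glue_cc h2 _ _ l
  rwa [e] at h1

theorem glue_add (f g : Ix 2 → F) (u v : Ix n → F) : glue (f + g) (u + v) = glue f u + glue g v := by
  funext k
  show glue (f + g) (u + v) k = glue f u k + glue g v k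
  unfold glue
  split_ifs <;> rfl

theorem glue_smul (a : F) (f : Ix 2 → F) (v : Ix n → F) : glue (a • f) (a • v) = a • glue f v := by
  funext k
  show glue (a • f) (a • v) k = a * glue f v k
  unfold glue
  split_ifs <;> rfl

theorem glue_comp (h2 : 2 ≤ n) (f : Ix 2 → F) (v : Ix n → F) : (glue f v) ∘ cc h2 = f := by
  funext l; exact glue_cc h2 _ _ l

theorem glue_self (h2 : 2 ≤ n) (v : Ix n → F) : glue (v ∘ cc h2) v = v := by
  funext k
  by_cases h : vl k < 2
  · rw [← cc_bk h2 k h, glue_cc]; rfl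
  · rw [glue_ge _ _ (by omega)]

theorem glue_of_zero (h2 : 2 ≤ n) {v : Ix n → F} (h : ∀ k, 2 ≤ vl k → v k = 0) : glue (v ∘ cc h2) 0 = v := by
  funext k
  by_cases hk : vl k < 2
  · rw [← cc_bk h2 k hk, glue_cc]; rfl
  · rw [glue_ge _ _ (by omega), h k (by omega)]; rfl

/-- an element fixing the other basis vectors preserves the first coordinates -/
theorem zero_of_fix [CharP F 2] {A : Sy n F} (h : ∀ k : Ix n, 2 ≤ vl k → rho n F A (be n F k) = be n F k)
    {v : Ix n → F} (hv : ∀ k, 2 ≤ vl k → v k = 0) (k : Ix n) (hk : 2 ≤ vl k) : rho n F A v k = 0 := by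
  have h1 : sympForm n F (rho n F A v) (rho n F A (be n F (neg k))) = sympForm n F v (be n F (neg k)) :=
    sympForm_rho A _ _
  rw [h _ (by rw [vl_neg]; exact hk), form_be, form_be, neg_neg, hv k hk] at h1
  exact h1

/-- elements which fix the other coordinates are in the image -/
theorem mem_emb [CharP F 2] (h2 : 2 ≤ n) {A : Sy n F}
    (h : ∀ k : Ix n, 2 ≤ vl k → rho n F A (be n F k) = be n F k) : ∃ B : Sy 2 F, A = emb h2 B := by
  have hinv : ∀ k : Ix n, 2 ≤ vl k → rho n F A⁻¹ (be n F k) = be n F k := by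
    intro k hk
    rw [map_inv, Equiv.Perm.inv_eq_iff_eq, h k hk]
  have hz : ∀ (f : Ix 2 → F) (k : Ix n), 2 ≤ vl k → glue f (0 : Ix n → F) k = 0 := fun f k hk => glue_ge _ _ hk
  have hA : ∀ f : Ix 2 → F, glue ((rho n F A (glue f 0)) ∘ cc h2) 0 = rho n F A (glue f 0) := fun f =>
    glue_of_zero h2 (zero_of_fix h (hz f))
  have hA' : ∀ f : Ix 2 → F, glue ((rho n F A⁻¹ (glue f 0)) ∘ cc h2) 0 = rho n F A⁻¹ (glue f 0) := fun f =>
    glue_of_zero h2 (zero_of_fix hinv (hz f))
  let s : Equiv.Perm (Ix 2 → F) :=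
    { toFun := fun f => (rho n F A (glue f 0)) ∘ cc h2
      invFun := fun f => (rho n F A⁻¹ (glue f 0)) ∘ cc h2
      left_inv := fun f => by
        show (rho n F A⁻¹ (glue ((rho n F A (glue f 0)) ∘ cc h2) 0)) ∘ cc h2 = f
        rw [hA, map_inv, perm_inv_apply_self, glue_comp]
      right_inv := fun f => by
        show (rho n F A (glue ((rho n F A⁻¹ (glue f 0)) ∘ cc h2) 0)) ∘ cc h2 = f
        rw [hA', map_inv, perm_apply_inv_self, glue_comp] }
  obtain ⟨B, hB⟩ := exists_rho_eq (m := 2) (F := F) s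
    (fun u v => by
      show (rho n F A (glue (u + v) 0)) ∘ cc h2 = (rho n F A (glue u 0)) ∘ cc h2 + (rho n F A (glue v 0)) ∘ cc h2
      have e : glue (u + v) (0 : Ix n → F) = glue u 0 + glue v 0 := by
        rw [← glue_add, add_zero]
      rw [e, (isSemi_rho A).1]; rfl)
    (fun a v => by
      show (rho n F A (glue (a • v) 0)) ∘ cc h2 = a • ((rho n F A (glue v 0)) ∘ cc h2)
      have e : glue (a • v) (0 : Ix n → F) = a • glue v 0 := by
        rw [← glue_smul, smul_zero]
      rw [e, (isSemi_rho A).2.1]; rfl)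
    (fun u v => by
      have h3 : ∀ u v : Ix 2 → F, sympForm 2 F u v = sympForm n F (glue u 0) (glue v 0) := by
        intro u v
        rw [form_split h2, glue_comp, glue_comp, Finset.sum_eq_zero, add_zero]
        intro i _
        split_ifs with hi
        · rfl
        · rw [hz u (Sum.inr i) (by show 2 ≤ i.val; omega), hz u (Sum.inl i) (by show 2 ≤ i.val; omega)]; ring
      rw [h3, h3 u v]
      show sympForm n F (glue ((rho n F A (glue u 0)) ∘ cc h2) 0) (glue ((rho n F A (glue v 0)) ∘ cc h2) 0) = _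
      rw [hA, hA, sympForm_rho])
  refine ⟨B, rho_injective ?_⟩
  ext1 v
  rw [rho_emb, hB]
  show rho n F A v = glue ((rho n F A (glue (v ∘ cc h2) 0)) ∘ cc h2) v
  have e1 : v = glue (v ∘ cc h2) 0 + glue 0 v := by rw [← glue_add, add_zero, zero_add, glue_self]
  have e2 : rho n F A (glue 0 v) = glue 0 v := by
    funext m
    rw [(SI.of_rho A).exp (glue 0 v)]
    conv_rhs => rw [expand (glue 0 v)]
    rw [Finset.sum_apply]
    refine Finset.sum_congr rfl fun k _ => ?_
    by_cases hk : vl k < 2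
    · have e3 : glue (0 : Ix 2 → F) v k = 0 := by rw [glue, dif_pos hk]; rfl
      rw [e3, zero_smul, map_zero, zero_mul]; rfl
    · rw [h k (by omega)]; rfl
  conv_lhs => rw [e1, (isSemi_rho A).1, e2]
  rw [← hA, ← glue_add, add_zero, zero_add, glue_comp]

/-! ### The centralizer of `A₀` -/

/-- `emb` and the torus on the other coordinates commute -/
theorem emb_sh (h2 : 2 ≤ n) (B : Sy 2 F) {lam : Fin n → Fˣ} (hl : ∀ i : Fin n, i.val < 2 → lam i = 1) :
    Commute (emb h2 B) (sh lam) := by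
  have hev : ∀ k : Ix n, vl k < 2 → ev lam k = 1 := by
    rintro (k | k) hk
    · exact hl k hk
    · show (lam k)⁻¹ = 1
      rw [hl k hk, inv_one]
  have hres : ∀ v : Ix n → F, (rho n F (sh lam) v) ∘ cc h2 = v ∘ cc h2 := by
    intro v
    funext l
    show rho n F (sh lam) v (cc h2 l) = v (cc h2 l)
    rw [rho_sh, hev _ (vl_cc h2 l), Units.val_one, one_mul]
  apply rho_injective
  ext v k
  show rho n F (emb h2 B * sh lam) v k = rho n F (sh lam * emb h2 B) v k
  rw [map_mul, map_mul, Equiv.Perm.mul_apply, Equiv.Perm.mul_apply, rho_emb, rho_sh, rho_emb, hres]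
  by_cases h : vl k < 2
  · rw [hev k h, Units.val_one, one_mul]
    unfold glue
    rw [dif_pos h, dif_pos h]
  · rw [glue_ge _ _ (by omega), glue_ge _ _ (by omega), rho_sh]

theorem sh_pow (lam : Fin n → Fˣ) (m : ℕ) : (sh lam : Sy n F) ^ m = sh (lam ^ m) := (map_pow _ _ _).symm

theorem sh_inj {lam mu : Fin n → Fˣ} (h : (sh lam : Sy n F) = sh mu) : lam = mu := by
  funext i
  have h1 := congrArg (fun C => rho n F C (be n F (Sum.inl i)) (Sum.inl i)) h
  simp only [rho_sh] at h1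
  rw [be_apply, if_pos rfl, mul_one, mul_one] at h1
  exact Units.ext h1

/-- the torus has odd order -/
theorem sh_odd [Finite F] [CharP F 2] {lam : Fin n → Fˣ} {k : ℕ} (h : (sh lam : Sy n F) ^ 2 ^ k = 1) : lam = 1 := by
  rw [sh_pow, ← map_one (sh : (Fin n → Fˣ) →* Sy n F)] at h
  have h1 := sh_inj h
  funext i
  have h2 : lam i ^ 2 ^ k = 1 := congrFun h1 i
  apply Units.ext
  exact eq_one_of_pow_two (k := k) (by rw [← Units.val_pow_eq_pow_val, h2]; rfl)

variable [CharP F 2] {p : ℕ}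

/-- the torus element with `ω` at one place -/
def om (i : Fin n) (w : Fˣ) : Fin n → Fˣ := Pi.mulSingle i w

theorem om_mem (hn : 3 ≤ n) {i : Fin n} (hi : 2 ≤ i.val) {w : Fˣ} (hw : w ^ p = 1) :
    sh (om i w) ∈ SpN.Kf.A0 hn F p := by
  refine ⟨om i w, ?_, ?_, fun j => ?_, rfl⟩
  · exact Pi.mulSingle_eq_of_ne (M := fun _ : Fin n => Fˣ) (fun e => by rw [← e] at hi; exact absurd hi (by show ¬ 2 ≤ 0; omega)) w
  · exact Pi.mulSingle_eq_of_ne (M := fun _ : Fin n => Fˣ) (fun e => by rw [← e] at hi; exact absurd hi (by show ¬ 2 ≤ 1; omega)) w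
  · by_cases h : j = i
    · subst h
      rw [om, Pi.mulSingle_eq_same]; exact hw
    · rw [om, Pi.mulSingle_eq_of_ne h, one_pow]

theorem ev_om (i : Fin n) (w : Fˣ) (k : Ix n) :
    ev (om i w) k = if k = Sum.inl i then w else if k = Sum.inr i then w⁻¹ else 1 := by
  rcases k with k | k
  · show om i w k = _
    by_cases h : k = i
    · subst h; rw [if_pos rfl, om, Pi.mulSingle_eq_same]
    · rw [if_neg (fun e => h (Sum.inl_injective e)), if_neg (by simp), om, Pi.mulSingle_eq_of_ne h]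
  · show (om i w k)⁻¹ = _
    by_cases h : k = i
    · subst h; rw [if_neg (by simp), if_pos rfl, om, Pi.mulSingle_eq_same]
    · rw [if_neg (by simp), if_neg (fun e => h (Sum.inr_injective e)), om, Pi.mulSingle_eq_of_ne h, inv_one]

/-- an element commuting with `A₀` -/
theorem diag_of_comm (hn : 3 ≤ n) {w : Fˣ} (hw : w ^ p = 1) (hw1 : w ≠ 1) (hw2 : w * w ≠ 1) {A : Sy n F}
    (hA : ∀ a ∈ SpN.Kf.A0 hn F p, Commute A a) {k : Ix n} (hk : 2 ≤ vl k) {l : Ix n} (hl : l ≠ k) :
    rho n F A (be n F k) l = 0 := by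
  -- the index of `k`
  obtain ⟨i, hi, hki⟩ : ∃ i : Fin n, 2 ≤ i.val ∧ (k = Sum.inl i ∨ k = Sum.inr i) := by
    rcases k with k | k
    · exact ⟨k, hk, Or.inl rfl⟩
    · exact ⟨k, hk, Or.inr rfl⟩
  have h1 := hA _ (om_mem hn hi hw)
  have h2 := congrArg (fun C => rho n F C (be n F k) l) h1.eq
  simp only [map_mul, Equiv.Perm.mul_apply, rho_sh] at h2
  have h3 : rho n F (sh (om i w)) (be n F k) = (ev (om i w) k : F) • be n F k := by
    funext m
    rw [rho_sh]
    show _ = (ev (om i w) k : F) * be n F k m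
    rw [be_apply]
    split_ifs with h
    · rw [h]
    · rw [mul_zero, mul_zero]
  rw [h3, (isSemi_rho A).2.1] at h2
  have h4 : ((ev (om i w) k : F) - (ev (om i w) l : F)) * rho n F A (be n F k) l = 0 := by
    have e : (ev (om i w) k : F) * rho n F A (be n F k) l = (ev (om i w) l : F) * rho n F A (be n F k) l := h2
    rw [sub_mul, e, sub_self]
  rcases mul_eq_zero.1 h4 with h5 | h5
  · exfalso
    have h6 : ev (om i w) k = ev (om i w) l := Units.ext (sub_eq_zero.1 h5)
    have hwi : w ≠ w⁻¹ := fun e => hw2 (by rw [← mul_inv_cancel w, ← e])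
    have hi1 : w⁻¹ ≠ 1 := fun e => hw1 (inv_eq_one.1 e)
    rw [ev_om, ev_om] at h6
    rcases hki with rfl | rfl
    · rw [if_pos rfl, if_neg hl] at h6
      split_ifs at h6
      · exact hwi h6
      · exact hw1 h6
    · rw [if_neg (by simp), if_pos rfl, if_neg hl] at h6
      split_ifs at h6
      · exact hwi h6.symm
      · exact hi1 h6
  · exact h5

theorem cent_A0 (hn : 3 ≤ n) (h2 : 2 ≤ n) {w : Fˣ} (hw : w ^ p = 1) (hw1 : w ≠ 1) (hw2 : w * w ≠ 1) {A : Sy n F}
    (hA : ∀ a ∈ SpN.Kf.A0 hn F p, Commute A a) :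
    ∃ (B : Sy 2 F) (lam : Fin n → Fˣ), (∀ i : Fin n, i.val < 2 → lam i = 1) ∧ A = emb h2 B * sh lam := by
  have hd : ∀ k : Ix n, 2 ≤ vl k → rho n F A (be n F k) = rho n F A (be n F k) k • be n F k := by
    intro k hk
    funext l
    show _ = _ * be n F k l
    rw [be_apply]
    split_ifs with h
    · rw [h, mul_one]
    · rw [mul_zero]; exact diag_of_comm hn hw hw1 hw2 hA hk h
  have hform : ∀ k : Ix n, 2 ≤ vl k → rho n F A (be n F k) k * rho n F A (be n F (neg k)) (neg k) = 1 := by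
    intro k hk
    have h1 : sympForm n F (rho n F A (be n F k)) (rho n F A (be n F (neg k))) =
        sympForm n F (be n F k) (be n F (neg k)) := sympForm_rho A _ _
    rw [hd k hk, hd (neg k) (by rw [vl_neg]; exact hk), sympForm_smul_left, sympForm_smul_right, form_be,
      neg_neg, be_apply, if_pos rfl, mul_one] at h1
    exact h1
  have hne : ∀ k : Ix n, 2 ≤ vl k → rho n F A (be n F k) k ≠ 0 := fun k hk h0 => by
    have h1 := hform k hk
    rw [h0, zero_mul] at h1
    exact zero_ne_one h1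
  let lam : Fin n → Fˣ := fun i => if h : 2 ≤ i.val then Units.mk0 _ (hne (Sum.inl i) h) else 1
  have hlam : ∀ i : Fin n, i.val < 2 → lam i = 1 := fun i hi => dif_neg (by omega)
  have hev : ∀ k : Ix n, 2 ≤ vl k → (ev lam k : F) = rho n F A (be n F k) k := by
    rintro (k | k) hk
    · show ((lam k : Fˣ) : F) = _
      rw [show lam k = Units.mk0 _ (hne (Sum.inl k) hk) from dif_pos hk, Units.val_mk0]
    · show (((lam k)⁻¹ : Fˣ) : F) = _
      rw [show lam k = Units.mk0 _ (hne (Sum.inl k) hk) from dif_pos hk, Units.val_inv_eq_inv_val, Units.val_mk0]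
      exact (eq_inv_of_mul_eq_one_right (hform (Sum.inl k) hk)).symm
  have hsh : ∀ k : Ix n, rho n F (sh lam) (be n F k) = (ev lam k : F) • be n F k := by
    intro k
    funext m
    rw [rho_sh]
    show _ = (ev lam k : F) * be n F k m
    rw [be_apply]
    split_ifs with h
    · rw [h]
    · rw [mul_zero, mul_zero]
  have hfix : ∀ k : Ix n, 2 ≤ vl k → rho n F ((sh lam)⁻¹ * A) (be n F k) = be n F k := by
    intro k hk
    rw [map_mul, map_inv, Equiv.Perm.mul_apply, Equiv.Perm.inv_eq_iff_eq, hd k hk, ← hev k hk, hsh k]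
  obtain ⟨B, hB⟩ := mem_emb h2 hfix
  refine ⟨B, lam, hlam, ?_⟩
  rw [(emb_sh h2 B hlam).eq, ← hB]
  group

/-- semi-isometries commuting with `emb` and `A₀` -/
theorem SI_comm (hn : 3 ≤ n) (h2 : 2 ≤ n) [Finite F] {w : Fˣ} (hw : w ^ p = 1) (hw1 : w ≠ 1) (hw2 : w * w ≠ 1)
    {s : Equiv.Perm (Ix n → F)} {φ : F ≃+* F} (hs : SI s φ)
    (h1 : ∀ B : Sy 2 F, s * rho n F (emb h2 B) = rho n F (emb h2 B) * s)
    (hA : ∀ a ∈ SpN.Kf.A0 hn F p, s * rho n F a = rho n F a * s) :
    ∃ lam : Fin n → Fˣ, s = rho n F (sh lam) := by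
  have htr : ∀ (f : Ix 2 → F) (c : F), emb h2 (transv f c) = transv (glue f (0 : Ix n → F)) c := by
    intro f c
    apply rho_injective
    ext v k
    rw [rho_emb, rho_transv, rho_transv]
    have e : sympForm n F v (glue f 0) = sympForm 2 F (v ∘ cc h2) f := by
      rw [form_split h2, glue_comp, Finset.sum_eq_zero, add_zero]
      intro i _
      split_ifs with hi
      · rfl
      · rw [glue_ge f (0 : Ix n → F) (k := Sum.inl i) (by show 2 ≤ i.val; omega),
          glue_ge f (0 : Ix n → F) (k := Sum.inr i) (by show 2 ≤ i.val; omega)]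
        simp
    rw [e]
    by_cases hk : vl k < 2
    · rw [← cc_bk h2 k hk, glue_cc]
      show _ = v (cc h2 (bk k hk)) + _ * glue f 0 (cc h2 (bk k hk))
      rw [glue_cc]
      rfl
    · rw [glue_ge _ _ (by omega)]
      show v k = v k + _ * glue f 0 k
      rw [glue_ge _ _ (by omega)]
      show v k = v k + _ * (0 : F)
      rw [mul_zero, add_zero]
  have hfix : ∀ f : Ix 2 → F, s (glue f 0) = glue f 0 := by
    intro f
    have h3 := hs.conj_transv (glue f (0 : Ix n → F)) 1
    rw [← htr, h1, mul_assoc, mul_inv_cancel, mul_one, htr, map_one] at h3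
    exact (transv_inj (rho_injective h3)).symm
  have hφ : φ = 1 := by
    ext a
    have h3 := hs.smul a (glue (be 2 F (Sum.inl 0)) 0)
    rw [hfix] at h3
    have h4 : a • glue (be 2 F (Sum.inl 0)) (0 : Ix n → F) = glue (a • be 2 F (Sum.inl 0)) 0 := by
      rw [← glue_smul, smul_zero]
    rw [h4, hfix, ← h4] at h3
    have h5 := congrFun h3 (cc h2 (Sum.inl 0))
    have h6 : glue (be 2 F (Sum.inl 0)) (0 : Ix n → F) (cc h2 (Sum.inl 0)) = 1 := by
      rw [glue_cc, be_apply, if_pos rfl]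
    change a * glue _ _ _ = φ a * glue _ _ _ at h5
    rw [h6, mul_one, mul_one] at h5
    exact h5.symm
  subst hφ
  obtain ⟨A, rfl⟩ := hs.exists_rho
  obtain ⟨B, lam, hlam, rfl⟩ := cent_A0 hn h2 hw hw1 hw2 (A := A) (fun a ha => by
    apply rho_injective
    have := hA a ha
    rwa [← map_mul, ← map_mul] at this)
  refine ⟨lam, ?_⟩
  have hB : B = 1 := by
    have h3 : B ∈ Subgroup.center (Sy 2 F) := by
      rw [Subgroup.mem_center_iff]
      intro C
      apply emb_injective h2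
      rw [map_mul, map_mul]
      have h4 := h1 C
      rw [← map_mul, ← map_mul] at h4
      have h5 := rho_injective h4
      have h6 := (emb_sh h2 C hlam).eq
      -- `B sh C = C B sh`
      have h7 : emb h2 B * emb h2 C * sh lam = emb h2 C * emb h2 B * sh lam := by
        calc emb h2 B * emb h2 C * sh lam = emb h2 B * sh lam * emb h2 C := by rw [mul_assoc, h6, mul_assoc]
          _ = emb h2 C * (emb h2 B * sh lam) := h5
          _ = _ := by rw [mul_assoc]
      exact (mul_right_cancel h7).symm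
    rwa [center_Sy (by omega), Subgroup.mem_bot] at h3
  rw [hB, map_one, one_mul]

/-! ### Root groups, Sylow subgroups and torus elements in the image of `emb` -/

theorem be_comp (h2 : 2 ≤ n) (k : Ix 2) : be n F (cc h2 k) ∘ cc h2 = be 2 F k := by
  funext l
  show be n F (cc h2 k) (cc h2 l) = be 2 F k l
  rw [be_apply, be_apply]
  by_cases h : l = k
  · rw [if_pos h, if_pos (by rw [h])]
  · rw [if_neg h, if_neg (fun e => h (cc_inj h2 e))]

theorem be_comp' (h2 : 2 ≤ n) {k : Ix n} (hk : 2 ≤ vl k) : be n F k ∘ cc h2 = 0 := by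
  funext l
  show be n F k (cc h2 l) = 0
  rw [be_apply, if_neg]
  intro e
  have := vl_cc h2 l
  rw [e] at this
  omega

theorem emb_be_ge (h2 : 2 ≤ n) (B : Sy 2 F) {k : Ix n} (hk : 2 ≤ vl k) :
    rho n F (emb h2 B) (be n F k) = be n F k := by
  rw [rho_emb, be_comp' h2 hk, (SI.of_rho B).zero, ← be_comp' (F := F) h2 hk, glue_self]

theorem emb_Up [Finite F] (h2 : 2 ≤ n) {B : Sy 2 F} (hB : B ∈ Up 2 F) : emb h2 B ∈ Up n F := by
  have key : ∀ i : Fin n, 2 ≤ vl (Sum.inl i : Ix n) ∨ ∃ i' : Fin 2, Sum.inl i = cc h2 (Sum.inl i') ∧ i'.val = i.val := by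
    intro i
    by_cases h : 2 ≤ i.val
    · exact Or.inl h
    · exact Or.inr ⟨⟨i.val, by omega⟩, rfl, rfl⟩
  refine ⟨fun i => ?_, fun i j hij => ?_, fun i j => ?_⟩
  · rcases key i with h | ⟨i', hi, hv⟩
    · rw [emb_be_ge h2 B h, be_apply, if_pos rfl]; rfl
    · rw [hi, rho_emb, be_comp, glue_cc]
      exact hB.dg i'
  · rcases key i with h | ⟨i', hi, hv⟩
    · rw [emb_be_ge h2 B h, be_apply, if_neg (fun e => hij.ne' (Sum.inl_injective e))]
    · rw [hi, rho_emb, be_comp]
      rcases key j with h | ⟨j', hj, hv'⟩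
      · rw [glue_ge _ _ h, be_apply, if_neg]
        intro e
        have h3 := vl_cc h2 (Sum.inl i' : Ix 2)
        rw [← e] at h3
        omega
      · rw [hj, glue_cc]
        exact hB.up i' j' (by rw [Fin.lt_def, hv, hv']; exact hij)
  · rcases key i with h | ⟨i', hi, hv⟩
    · rw [emb_be_ge h2 B h, be_apply, if_neg (by simp)]
    · rw [hi, rho_emb, be_comp]
      by_cases h : vl (Sum.inr j : Ix n) < 2
      · rw [← cc_bk h2 _ h, glue_cc]
        exact hB.lo i' _
      · rw [glue_ge _ _ (by omega), be_apply, if_neg (by simp [cc])]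

/-- the root elements are in the image -/
theorem zz_emb (hn : 3 ≤ n) (h2 : 2 ≤ n) (a b : F) : ∃ B : Sy 2 F, zz hn a b = emb h2 B := by
  apply mem_emb
  intro k hk
  have h0 : be n F k (Sum.inr (c0 hn)) = 0 := by
    rw [be_apply, if_neg]
    intro e
    rw [← e] at hk
    exact absurd hk (by show ¬ 2 ≤ 0; omega)
  have h1 : be n F k (Sum.inr (c1 hn)) = 0 := by
    rw [be_apply, if_neg]
    intro e
    rw [← e] at hk
    exact absurd hk (by show ¬ 2 ≤ 1; omega)
  rw [rho_zz, h0, h1]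
  simp

/-- torus elements in the image -/
theorem sh_emb (h2 : 2 ≤ n) {lam : Fin n → Fˣ} (hl : ∀ i : Fin n, 2 ≤ i.val → lam i = 1) :
    ∃ B : Sy 2 F, (sh lam : Sy n F) = emb h2 B := by
  apply mem_emb
  intro k hk
  funext m
  rw [rho_sh]
  by_cases h : m = k
  · subst h
    have : ev lam m = 1 := by
      rcases m with m | m
      · exact hl m hk
      · show (lam m)⁻¹ = 1
        rw [hl m hk, inv_one]
    rw [this, Units.val_one, one_mul]
  · rw [be_apply, if_neg h, mul_zero]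

/-- an element of odd order of the image commuting with the long root elements -/
theorem tor_long (hn : 3 ≤ n) (h2 : 2 ≤ n) {w : Fˣ} (hw1 : w ≠ 1) [Finite F] :
    ∃ B : Sy 2 F, (∀ b : F, Commute (emb h2 B) (zz hn 0 b)) ∧ ∀ k : ℕ, B ^ 2 ^ k ≠ 1 := by
  obtain ⟨B, hB⟩ := sh_emb (F := F) h2 (lam := Pi.mulSingle (c1 hn) w) (fun i hi =>
    Pi.mulSingle_eq_of_ne (M := fun _ : Fin n => Fˣ)
      (fun e => by rw [e] at hi; exact absurd hi (by show ¬ 2 ≤ 1; omega)) w)
  refine ⟨B, fun b => ?_, fun k hk => ?_⟩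
  · rw [← hB, zz_b]
    have h3 := sh_sy (F := F) (Pi.mulSingle (c1 hn) w) (Sum.inl (c0 hn)) b
    have h4 : ev (Pi.mulSingle (c1 hn) w) (Sum.inl (c0 hn)) = 1 :=
      Pi.mulSingle_eq_of_ne (M := fun _ : Fin n => Fˣ) (c01 hn) w
    rw [h4, Units.val_one, one_pow, one_mul, mul_inv_eq_iff_eq_mul] at h3
    exact h3
  · have h3 : (sh (Pi.mulSingle (c1 hn) w) : Sy n F) ^ 2 ^ k = 1 := by rw [hB, ← map_pow, hk, map_one]
    have h4 := congrFun (sh_odd h3) (c1 hn)
    rw [Pi.mulSingle_eq_same] at h4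
    exact hw1 h4

/-- an element of odd order of the image commuting with the short root elements -/
theorem tor_short (hn : 3 ≤ n) (h2 : 2 ≤ n) {w : Fˣ} (hw1 : w ≠ 1) [Finite F] :
    ∃ B : Sy 2 F, (∀ a : F, Commute (emb h2 B) (zz hn a 0)) ∧ ∀ k : ℕ, B ^ 2 ^ k ≠ 1 := by
  set lam : Fin n → Fˣ := Pi.mulSingle (c0 hn) w * Pi.mulSingle (c1 hn) w⁻¹ with hlam
  have l0 : lam (c0 hn) = w := by
    rw [hlam, Pi.mul_apply, Pi.mulSingle_eq_same,
      Pi.mulSingle_eq_of_ne (M := fun _ : Fin n => Fˣ) (c01 hn), mul_one]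
  have l1 : lam (c1 hn) = w⁻¹ := by
    rw [hlam, Pi.mul_apply, Pi.mulSingle_eq_same,
      Pi.mulSingle_eq_of_ne (M := fun _ : Fin n => Fˣ) (c01 hn).symm, one_mul]
  obtain ⟨B, hB⟩ := sh_emb (F := F) h2 (lam := lam) (fun i hi => by
    rw [hlam, Pi.mul_apply, Pi.mulSingle_eq_of_ne (M := fun _ : Fin n => Fˣ)
      (fun e => by rw [e] at hi; exact absurd hi (by show ¬ 2 ≤ 0; omega)) w,
      Pi.mulSingle_eq_of_ne (M := fun _ : Fin n => Fˣ)
      (fun e => by rw [e] at hi; exact absurd hi (by show ¬ 2 ≤ 1; omega)) w⁻¹, one_mul])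
  refine ⟨B, fun b => ?_, fun k hk => ?_⟩
  · rw [← hB, zz_a]
    have h3 := sh_sx (F := F) lam (Sum.inl (c0 hn)) (Sum.inl (c1 hn)) b
    have h4 : ev lam (Sum.inl (c0 hn)) = w := l0
    have h5 : ev lam (Sum.inl (c1 hn)) = w⁻¹ := l1
    rw [h4, h5, Units.mul_inv, one_mul, mul_inv_eq_iff_eq_mul] at h3
    exact h3
  · have h3 : (sh lam : Sy n F) ^ 2 ^ k = 1 := by rw [hB, ← map_pow, hk, map_one]
    have h4 := congrFun (sh_odd h3) (c0 hn)
    rw [l0] at h4
    exact hw1 h4

end Cfsg.Agent.OddHalf.D4.SpC.Emb
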