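import Mathlib
import Cfsg.Agent.OddHalf.D4.SpFourSetup
import Cfsg.Agent.OddHalf.D4.SpFourEnd

/-!
# ODD D4, `K = Sp_2n(q)`: the end in `C(A₀)` (helper63; step (6) of bb ODD #14529)

`end6`: `K ≅ Sp₄(q)`, `Env K`, `Q` Sylow 2 in `C(K)`, elementary abelian; a conjugate `Q^y ≤ Q X` with `X` centralised
by a Sylow 2-subgroup of `K` and, elementwise, by elements of `K` outside 2-groups: impossible.
-/

set_option autoImplicit false
set_option linter.unusedSectionVars false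

namespace Cfsg.Agent.OddHalf.D4.SpC.EndB

open Subgroup Cfsg.Agent.StdSpFour Cfsg.Agent.OddHalf.D4 Cfsg.Agent.OddHalf.D4.Basic
open Cfsg.Agent.OddHalf.D4.SpFourDefs Cfsg.Agent.OddHalf.D4.SpFourCent
open Cfsg.Agent.OddHalf.D4.SpFourU Cfsg.Agent.OddHalf.D4.SpFourFr
open Cfsg.Agent.OddHalf.D4.SpFourTOne
open Cfsg.Agent.StdSpFour.Swap (swap)
open Cfsg.Agent.OddHalf.D4.CommConj (cj mem_cj mem_cj_mul cj_eq_of_mem_normalizer)

universe u

/-- coordinates of a subgroup `K ≅ Sp₄(F)` -/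
theorem exists_base' {F : Type*} [Field F] [Finite F] [CharP F 2] (hF : 4 ≤ Nat.card F) {G : Type u} [Group G]
    [Finite G] {K : Subgroup G} (hcom : _root_.commutator ↥K = ⊤) (hZ : center ↥K = ⊥) (e : ↥K ≃* Cfsg.PSp 2 F)
    {t : G} (htt : t * t = 1) (ht : t ∈ centralizer (K : Set G)) (htK : t ∉ K) :
    ∃ B : Base F G, B.t = t ∧ KCent B K ∧ KAut B K := by
  obtain ⟨S⟩ := Cfsg.Agent.StdRank2.B2Inst.exists_std_Sp (F := F) (by omega)
  have e' : ↥K ⧸ center ↥K ≃* Cfsg.PSp 2 F :=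
    ((QuotientGroup.quotientMulEquivOfEq hZ).trans QuotientGroup.quotientBot).trans e
  obtain ⟨S', -⟩ := Cfsg.Agent.StdRank2.B2Inst.exists_frame hcom (by rw [hZ, card_bot]; exact odd_one) e' S
  exact ⟨_, rfl, SpFourK.kCent S' hZ htt ht htK hF, SpFourK.kAut S' hZ htt ht htK hF⟩

variable {F : Type*} [Field F] [CharP F 2] [Finite F] {G : Type u} [Group G] [Finite G]
variable {B : Base F G} {K : Subgroup G}

/-- the elements of `X` are pure -/
theorem pure (hK : KCent B K) (hA : KAut B K) {X : Subgroup G} (hXK : X ≤ K)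
    (hXU : ∀ x ∈ X, ∀ v, IsU B v → Commute x v)
    (hX : ∀ x ∈ X, ∃ h ∈ K, Commute h x ∧ ∀ k : ℕ, h ^ 2 ^ k ≠ 1) :
    (∀ x ∈ X, ∃ w, x = B.zs w) ∨ (∀ x ∈ X, ∃ w, x = B.zl w) := by
  have hform : ∀ x ∈ X, ∃ m r, x = B.zs m * B.zl r ∧ (m = 0 ∨ r = 0) := by
    intro x hx
    obtain ⟨u, s, m, r, hc⟩ := hA x (le_normalizer (H := K) (hXK hx))
      (fun w => hXU x hx _ (isU_zs w)) (fun w => hXU x hx _ (isU_zl w))
    have h1 : (B.xa u * B.xb s * B.zs m * B.zl r)⁻¹ * x = 1 := by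
      refine hK.center _ (mul_mem (inv_mem (isU_memK hK.toKBase ⟨u, s, m, r, rfl⟩)) (hXK hx)) hc
    have hxU : IsU B x := ⟨u, s, m, r, (inv_mul_eq_one.1 h1).symm⟩
    obtain ⟨m', r', e⟩ := center_U hxU (hXU x hx _ (isU_xa 1)) (hXU x hx _ (isU_xb 1))
    refine ⟨m', r', e, ?_⟩
    by_contra hcon
    push Not at hcon
    obtain ⟨h, hhK, hhc, hh⟩ := hX x hx
    rw [e] at hhc
    exact hh 2 (IsU.pow_four (hK.cent_m h hhK m' r' hcon.1 hcon.2 hhc))
  by_contra hcon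
  push Not at hcon
  obtain ⟨⟨x, hx, hx1⟩, y, hy, hy1⟩ := hcon
  obtain ⟨m, r, ex, h1⟩ := hform x hx
  obtain ⟨m', r', ey, h2⟩ := hform y hy
  have hr : r ≠ 0 := by
    intro h0
    apply hx1 m
    rw [ex, h0, B.zl_zero, mul_one]
  have hm : m = 0 := h1.resolve_right hr
  have hm' : m' ≠ 0 := by
    intro h0
    apply hy1 r'
    rw [ey, h0, B.zs_zero, one_mul]
  have hr' : r' = 0 := h2.resolve_left hm'
  subst hm hr'
  rw [B.zs_zero, one_mul] at ex
  rw [B.zl_zero, mul_one] at ey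
  obtain ⟨h, hhK, hhc, hh⟩ := hX (y * x) (X.mul_mem hy hx)
  rw [ex, ey] at hhc
  exact hh 2 (IsU.pow_four (hK.cent_m h hhK m' r hm' hr hhc))

/-- **The end.** -/
theorem end6 (hF : 4 ≤ Nat.card F) (hcom : _root_.commutator ↥K = ⊤) (e : ↥K ≃* Cfsg.PSp 2 F) (env : Env K)
    {Q X U : Subgroup G} (hQ : IsSyl Q (centralizer (K : Set G))) (hsq : ∀ t ∈ Q, t * t = 1)
    (h4 : ∃ t1 ∈ Q, ∃ t2 ∈ Q, t1 ≠ 1 ∧ t2 ≠ 1 ∧ t1 ≠ t2)
    (hU : IsSyl U K) (hXK : X ≤ K) (hXU : ∀ x ∈ X, ∀ v ∈ U, Commute x v)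
    (hX : ∀ x ∈ X, ∃ h ∈ K, Commute h x ∧ ∀ k : ℕ, h ^ 2 ^ k ≠ 1)
    {y : G} (hy : ∀ t ∈ Q, ∃ t' ∈ Q, ∃ x ∈ X, y * t * y⁻¹ = t' * x)
    (hinj : ∀ t ∈ Q, y * t * y⁻¹ ∈ X → t = 1) (hne : ∃ t ∈ Q, y * t * y⁻¹ ∉ Q) : False := by
  have := Fintype.ofFinite F
  have h4' := h4
  obtain ⟨t0, ht0, t1, ht1, ht0', -, -⟩ := h4
  have hZ : center ↥K = ⊥ := by
    rw [eq_bot_iff]
    intro z hz
    rw [mem_bot]
    apply Subtype.ext
    apply env.cen z z.2
    rw [mem_centralizer_iff]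
    intro x hx
    exact congrArg Subtype.val (mem_center_iff.1 hz ⟨x, hx⟩)
  obtain ⟨B, hBt, hK, hA⟩ := exists_base' hF hcom hZ e (hsq t0 ht0) (hQ.le ht0)
    (fun h => ht0' (env.cen t0 h (hQ.le ht0)))
  obtain ⟨k, hk, hkU⟩ := hK.syl U hU.le hU.two
  -- the Sylow subgroup `U` is conjugate to `UU B`
  have hUB : ∀ v, IsU B v → k⁻¹ * v * k ∈ U := by
    intro v hv
    have h2 : IsSyl (cj k U) K := by
      have h3 := hU.cj k
      rwa [cj_eq_of_mem_normalizer (le_normalizer (H := K) hk)] at h3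
    have h3 : UU B ≤ cj k U := by
      apply h2.max _ isPGroup_UU
      · intro x hx
        rw [mem_cj] at hx
        obtain ⟨u, s, m, r, e⟩ := hkU _ hx
        have e2 : k * (k⁻¹ * x * k) * k⁻¹ = x := by group
        rw [e2] at e
        exact ⟨u, s, m, r, e⟩
      · intro v hv
        exact isU_memK hK.toKBase hv
    exact mem_cj.mp (h3 hv)
  have hkQ : ∀ t ∈ Q, Commute k t := fun t ht => mem_centralizer_iff.1 (hQ.le ht) k hk
  -- `X' = X^k`
  have hp := pure hK hA (X := cj k X) (by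
      intro x hx
      rw [mem_cj] at hx
      have h1 := hXK hx
      have e1 : x = k * (k⁻¹ * x * k) * k⁻¹ := by group
      rw [e1]
      exact mul_mem (mul_mem hk h1) (inv_mem hk))
    (by
      intro x hx v hv
      rw [mem_cj] at hx
      have h1 := (hXU _ hx _ (hUB v hv)).eq
      show x * v = v * x
      calc x * v = k * (k⁻¹ * x * k * (k⁻¹ * v * k)) * k⁻¹ := by group
        _ = v * x := by rw [h1]; group)
    (by
      intro x hx
      rw [mem_cj] at hx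
      obtain ⟨h, hh, hc, hp⟩ := hX _ hx
      refine ⟨k * h * k⁻¹, mul_mem (mul_mem hk hh) (inv_mem hk), ?_, ?_⟩
      · show k * h * k⁻¹ * x = x * (k * h * k⁻¹)
        calc k * h * k⁻¹ * x = k * (h * (k⁻¹ * x * k)) * k⁻¹ := by group
          _ = x * (k * h * k⁻¹) := by rw [hc.eq]; group
      · intro j hj
        apply hp j
        rw [conj_pow] at hj
        calc h ^ 2 ^ j = k⁻¹ * (k * h ^ 2 ^ j * k⁻¹) * k := by group
          _ = 1 := by rw [hj]; group)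
  -- the mover `k y`
  have hy' : ∀ t ∈ Q, ∃ t' ∈ Q, ∃ x ∈ cj k X, (k * y) * t * (k * y)⁻¹ = t' * x := by
    intro t ht
    obtain ⟨t', ht', x, hx, e1⟩ := hy t ht
    refine ⟨t', ht', k * x * k⁻¹, mem_cj_mul hx, ?_⟩
    calc (k * y) * t * (k * y)⁻¹ = k * (y * t * y⁻¹) * k⁻¹ := by group
      _ = (k * t' * k⁻¹) * (k * x * k⁻¹) := by rw [e1]; group
      _ = _ := by rw [(hkQ t' ht').eq]; group
  have hinj' : ∀ t ∈ Q, (k * y) * t * (k * y)⁻¹ ∈ cj k X → t = 1 := by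
    intro t ht h
    apply hinj t ht
    rw [mem_cj] at h
    have e1 : k⁻¹ * (k * y * t * (k * y)⁻¹) * k = y * t * y⁻¹ := by group
    rwa [e1] at h
  have hne' : ∃ t ∈ Q, (k * y) * t * (k * y)⁻¹ ∉ Q := by
    obtain ⟨t, ht, h⟩ := hne
    refine ⟨t, ht, fun h1 => h ?_⟩
    have e1 : y * t * y⁻¹ = k⁻¹ * (k * y * t * (k * y)⁻¹) * k := by group
    rw [e1]
    have e2 := (hkQ _ h1).eq
    have e3 : k⁻¹ * (k * y * t * (k * y)⁻¹) * k = k * y * t * (k * y)⁻¹ := by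
      calc k⁻¹ * (k * y * t * (k * y)⁻¹) * k = k⁻¹ * ((k * y * t * (k * y)⁻¹) * k) := by group
        _ = _ := by rw [← e2]; group
    rw [e3]
    exact h1
  have hqc : QC B Q := by
    have hc : ∀ t ∈ Q, ∀ k ∈ K, Commute t k := fun t ht k hk =>
      (mem_centralizer_iff.mp (hQ.le ht) k hk).symm
    refine ⟨hBt ▸ ht0, hsq, fun t ht u => hc t ht _ (hK.xa_mem u), fun t ht u => hc t ht _ (hK.xb_mem u),
      fun t ht u => hc t ht _ (hK.zs_mem u), fun t ht u => hc t ht _ (hK.zl_mem u),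
      fun t ht α β => hc t ht _ (hK.h_mem α β), fun t ht => hc t ht _ hK.na_mem,
      fun t ht => hc t ht _ hK.nb_mem, ?_⟩
    intro t ht u s m r e
    refine env.cen t ?_ (hQ.le ht)
    rw [← e]
    exact mul_mem (mul_mem (mul_mem (hK.xa_mem u) (hK.xb_mem s)) (hK.zs_mem m)) (hK.zl_mem r)
  rw [Nat.card_eq_fintype_card] at hF
  rcases hp with hs | hl
  · refine SpFourEnd.endS hF hK hA env hQ hqc h4' (g := k * y) ⟨?_, ?_, hne'⟩
    · intro t ht
      obtain ⟨t', ht', x, hx, e1⟩ := hy' t ht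
      obtain ⟨w, rfl⟩ := hs x hx
      exact ⟨t', ht', w, e1⟩
    · intro t ht w e1
      obtain ⟨t', ht', x, hx, e2⟩ := hy' t ht
      obtain ⟨w', rfl⟩ := hs x hx
      have h5 : t' = 1 := by
        apply env.cen t' _ (hQ.le ht')
        have e3 : t' = B.zs w * (B.zs w')⁻¹ := by rw [← e1, e2]; group
        rw [e3]
        exact mul_mem (hK.zs_mem w) (inv_mem (hK.zs_mem w'))
      apply hinj' t ht
      rw [e2, h5, one_mul]
      exact hx
  · refine SpFourEnd.endL hF hK hA env hQ hqc h4' (g := k * y) ⟨?_, ?_, hne'⟩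
    · intro t ht
      obtain ⟨t', ht', x, hx, e1⟩ := hy' t ht
      obtain ⟨w, rfl⟩ := hl x hx
      exact ⟨t', ht', w, e1⟩
    · intro t ht w e1
      obtain ⟨t', ht', x, hx, e2⟩ := hy' t ht
      obtain ⟨w', rfl⟩ := hl x hx
      have h5 : t' = 1 := by
        apply env.cen t' _ (hQ.le ht')
        have e3 : t' = B.zl w * (B.zl w')⁻¹ := by
          have e4 : (k * y) * t * (k * y)⁻¹ = B.zl w := e1
          rw [← e4, e2]; group
        rw [e3]
        exact mul_mem (hK.zl_mem w) (inv_mem (hK.zl_mem w'))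
      apply hinj' t ht
      rw [e2, h5, one_mul]
      exact hx

end Cfsg.Agent.OddHalf.D4.SpC.EndB
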