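import Mathlib
import Cfsg.Agent.OddHalf.D4.SpC.EndB
import Cfsg.Agent.OddHalf.D4.SpC.Desc
import Cfsg.Agent.OddHalf.D4.SpC.Emb
import Cfsg.Agent.S0270

/-!
# ODD D4, `K = Sp_2n(q)`, `n ≥ 3`, `q ≥ 4`: no mover in `C(A₀)` (helper63; step (6) of bb ODD #14529)
-/

set_option autoImplicit false
set_option linter.unusedSectionVars false

namespace Cfsg.Agent.OddHalf.D4.SpC.Fin

open Cfsg Subgroup Cfsg.Agent.ClassicalGeometry.SympBasic Cfsg.Agent.ClassicalGeometry.SympAutSemi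
open Cfsg.Agent.OddHalf.D4 Cfsg.Agent.OddHalf.D4.Basic
open Cfsg.Agent.OddHalf.SpN Cfsg.Agent.OddHalf.SpN.Out
open Cfsg.Agent.OddHalf.D4.CommConj (cj mem_cj mem_cj_mul cj_eq_of_mem_normalizer)
open Cfsg.Agent.OddHalf.D4.SpC.Emb Cfsg.Agent.OddHalf.D4.SpC.Desc

open scoped commutatorElement

universe u

variable {n : ℕ} {F : Type*} [Field F] [Finite F] [CharP F 2] {G : Type u} [Group G]

theorem exists_w {p : ℕ} (hp : p.Prime) (hp2 : p ≠ 2) (hpF : p ∣ Nat.card F - 1) :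
    ∃ w : Fˣ, w ^ p = 1 ∧ w ≠ 1 ∧ w * w ≠ 1 := by
  have : Fact p.Prime := ⟨hp⟩
  have hc : Nat.card Fˣ = Nat.card F - 1 := Nat.card_units F
  obtain ⟨w, hw⟩ := exists_prime_orderOf_dvd_card' (G := Fˣ) p (by rw [hc]; exact hpF)
  refine ⟨w, by rw [← hw]; exact pow_orderOf_eq_one w, ?_, ?_⟩
  · intro h
    rw [h, orderOf_one] at hw
    exact hp.one_lt.ne hw
  · intro h
    have h1 : orderOf w ∣ 2 := orderOf_dvd_of_pow_eq_one (by rw [pow_two]; exact h)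
    rw [hw] at h1
    exact hp2 ((Nat.prime_dvd_prime_iff_eq hp Nat.prime_two).1 h1)

/-- `Sp₄(F) ≃ PSp₄(F)` -/
noncomputable def eSy (h : center (Sy 2 F) = ⊥) : Sy 2 F ≃* PSp 2 F :=
  (QuotientGroup.quotientBot.symm.trans (QuotientGroup.quotientMulEquivOfEq h.symm))

/-- `Y = C_G(A₀)` -/
def YY (hn : 3 ≤ n) (ι : Sy n F →* G) (p : ℕ) : Subgroup G :=
  centralizer (((SpN.Kf.A0 hn F p).map ι : Subgroup G) : Set G)

theorem mem_YY (hn : 3 ≤ n) {ι : Sy n F →* G} {p : ℕ} {g : G} :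
    g ∈ YY hn ι p ↔ ∀ a ∈ SpN.Kf.A0 hn F p, ι a * g = g * ι a := by
  rw [YY, mem_centralizer_iff]
  constructor
  · intro h a ha
    exact h _ ⟨a, ha, rfl⟩
  · rintro h _ ⟨a, ha, rfl⟩
    exact h a ha

theorem emb_mem (hn : 3 ≤ n) (h2 : 2 ≤ n) (ι : Sy n F →* G) (p : ℕ) (B : Sy 2 F) : ι (emb h2 B) ∈ YY hn ι p := by
  rw [mem_YY]
  rintro a ⟨lam, l0, l1, -, rfl⟩
  rw [← map_mul, ← map_mul]
  congr 1
  refine (emb_sh h2 B (lam := lam) fun i hi => ?_).symm.eq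
  have h3 : i.val = 0 ∨ i.val = 1 := by omega
  rcases h3 with h3 | h3
  · have : i = c0 hn := _root_.Fin.ext h3
    rw [this]; exact l0
  · have : i = c1 hn := _root_.Fin.ext h3
    rw [this]; exact l1

/-- `Sp₄(F) → Y` -/
noncomputable def jj (hn : 3 ≤ n) (h2 : 2 ≤ n) (ι : Sy n F →* G) (p : ℕ) : Sy 2 F →* ↥(YY hn ι p) :=
  (ι.comp (emb h2)).codRestrict _ (emb_mem hn h2 ι p)

theorem coe_jj (hn : 3 ≤ n) (h2 : 2 ≤ n) (ι : Sy n F →* G) (p : ℕ) (B : Sy 2 F) :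
    ((jj hn h2 ι p B : ↥(YY hn ι p)) : G) = ι (emb h2 B) := rfl

section

variable (hn : 3 ≤ n) (h2 : 2 ≤ n) {ι : Sy n F →* G} (hι : Function.Injective ι) {p : ℕ}

include hι in
theorem jj_injective : Function.Injective (jj hn h2 ι p) := by
  intro A B h
  exact emb_injective h2 (hι (congrArg Subtype.val h))

include hι in
/-- elements of `K ∩ Y` -/
theorem exists_form {w : Fˣ} (hw : w ^ p = 1) (hw1 : w ≠ 1) (hw2 : w * w ≠ 1) {g : G} (hg : g ∈ YY hn ι p)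
    (hK : g ∈ ι.range) : ∃ (B : Sy 2 F) (lam : Fin n → Fˣ), (∀ i : Fin n, i.val < 2 → lam i = 1) ∧
      g = ι (emb h2 B) * ι (sh lam) := by
  obtain ⟨A, rfl⟩ := hK
  obtain ⟨B, lam, hl, rfl⟩ := cent_A0 hn h2 hw hw1 hw2 (A := A) (fun a ha => by
    apply hι
    rw [map_mul, map_mul]
    exact ((mem_YY hn).1 hg a ha).symm)
  exact ⟨B, lam, hl, map_mul _ _ _⟩

include hι in
/-- the commutator group of `K ∩ Y` is in `Sp₄(q)` -/
theorem comm_le {w : Fˣ} (hw : w ^ p = 1) (hw1 : w ≠ 1) (hw2 : w * w ≠ 1) :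
    ⁅(ι.range).subgroupOf (YY hn ι p), (ι.range).subgroupOf (YY hn ι p)⁆ ≤ (jj hn h2 ι p).range := by
  rw [commutator_le]
  intro a ha b hb
  obtain ⟨A, lam, hl, ea⟩ := exists_form hn h2 hι hw hw1 hw2 a.2 (mem_subgroupOf.1 ha)
  obtain ⟨B, mu, hm, eb⟩ := exists_form hn h2 hι hw hw1 hw2 b.2 (mem_subgroupOf.1 hb)
  refine ⟨⁅A, B⁆, Subtype.ext ?_⟩
  rw [coe_jj]
  show ι (emb h2 ⁅A, B⁆) = (a : G) * b * (a : G)⁻¹ * (b : G)⁻¹
  rw [ea, eb]
  have c1 : Commute (ι (emb h2 A)) (ι (sh lam)) := (emb_sh h2 A hl).map ι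
  have c2 : Commute (ι (emb h2 A)) (ι (sh mu)) := (emb_sh h2 A hm).map ι
  have c3 : Commute (ι (emb h2 B)) (ι (sh lam)) := (emb_sh h2 B hl).map ι
  have c4 : Commute (ι (emb h2 B)) (ι (sh mu)) := (emb_sh h2 B hm).map ι
  have c5 : Commute (ι (sh lam)) (ι (sh mu)) := by
    show _ * _ = _ * _
    rw [← map_mul, ← map_mul, ← map_mul, ← map_mul, mul_comm]
  rw [map_commutatorElement, map_commutatorElement, commutatorElement_def]
  generalize ι (emb h2 A) = x at *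
  generalize ι (emb h2 B) = y at *
  generalize ι (sh lam) = l at *
  generalize ι (sh mu) = m at *
  have e1 : x * l * (y * m) = x * y * (l * m) := by
    calc x * l * (y * m) = x * (l * y) * m := by group
      _ = _ := by rw [← c3.eq]; group
  have e2 : y * m * (x * l) = y * x * (m * l) := by
    calc y * m * (x * l) = y * (m * x) * l := by group
      _ = _ := by rw [← c2.eq]; group
  have e3 : x * l * (y * m) * (x * l)⁻¹ * (y * m)⁻¹ = x * l * (y * m) * (y * m * (x * l))⁻¹ := by group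
  rw [e3, e1, e2, mul_inv_rev, mul_inv_rev, c5.eq]
  group

end

variable [Finite G]

/-- **The 2-elements of `N_Y(K)` centralising `Sp₄(q)` centralise `K`.** -/
theorem two (hn : 3 ≤ n) (h2 : 2 ≤ n) {ι : Sy n F →* G} (hι : Function.Injective ι) {p : ℕ} {w : Fˣ}
    (hw : w ^ p = 1) (hw1 : w ≠ 1) (hw2 : w * w ≠ 1) {g : G} (hg : g ∈ YY hn ι p)
    (hN : g ∈ normalizer (ι.range : Set G)) {k : ℕ} (hk : g ^ 2 ^ k = 1)
    (hc : ∀ B : Sy 2 F, ι (emb h2 B) * g = g * ι (emb h2 B)) : g ∈ centralizer (ι.range : Set G) := by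
  obtain ⟨s, φ, hs, ha⟩ := exists_acts hn hι hN
  have key : ∀ A : Sy n F, ι A * g = g * ι A → s * rho n F A = rho n F A * s := by
    intro A hA
    have h3 := ha.rho_eq hι (A := A) (B := A) (by rw [← hA]; group)
    rw [eq_mul_inv_iff_mul_eq] at h3
    exact h3.symm
  obtain ⟨lam, hlam⟩ := SI_comm hn h2 hw hw1 hw2 hs (fun B => key _ (hc B))
    (fun a ha' => key a ((mem_YY hn).1 hg a ha'))
  have hact : ∀ A : Sy n F, g * ι A * g⁻¹ = ι (sh lam) * ι A * (ι (sh lam))⁻¹ := by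
    intro A
    have h3 := ha.eq (A := A) (B := sh lam * A * (sh lam)⁻¹) (by rw [map_mul, map_mul, map_inv, hlam])
    rw [h3, map_mul, map_mul, map_inv]
  have hcen : (ι (sh lam))⁻¹ * g ∈ centralizer (ι.range : Set G) := by
    rw [mem_centralizer_iff]
    rintro _ ⟨A, rfl⟩
    have h3 := hact A
    calc ι A * ((ι (sh lam))⁻¹ * g) = (ι (sh lam))⁻¹ * (ι (sh lam) * ι A * (ι (sh lam))⁻¹) * g := by group
      _ = (ι (sh lam))⁻¹ * (g * ι A * g⁻¹) * g := by rw [h3]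
      _ = _ := by group
  set c := (ι (sh lam))⁻¹ * g with hcdef
  have hcomm : Commute (ι (sh lam)) c := mem_centralizer_iff.1 hcen _ ⟨_, rfl⟩
  have hgc : g = ι (sh lam) * c := by rw [hcdef]; group
  have h3 : (ι (sh lam)) ^ 2 ^ k * c ^ 2 ^ k = 1 := by
    rw [← hcomm.mul_pow, ← hgc, hk]
  have h4 : (sh lam : Sy n F) ^ 2 ^ k ∈ center (Sy n F) := by
    rw [mem_center_iff]
    intro A
    apply hι
    have h5 : ι ((sh lam) ^ 2 ^ k) = (c ^ 2 ^ k)⁻¹ := by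
      rw [map_pow]
      exact eq_inv_of_mul_eq_one_left h3
    rw [map_mul, map_mul, h5]
    exact mem_centralizer_iff.1 (inv_mem (pow_mem hcen _)) _ ⟨A, rfl⟩
  rw [center_Sy (by omega), mem_bot] at h4
  have h5 := sh_odd h4
  rw [hgc, h5, map_one, map_one, one_mul]
  exact hcen

/-- **No mover in `C(A₀)`.** -/
theorem end5 (hn : 3 ≤ n) (hF : 4 ≤ Nat.card F) {ι : Sy n F →* G} (hι : Function.Injective ι)
    (ht : TightAt ι.range) {p : ℕ} (hp : p.Prime) (hp2 : p ≠ 2) (hpF : p ∣ Nat.card F - 1) {Q : Subgroup G}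
    (hQ : IsSyl Q (centralizer (ι.range : Set G))) (hsq : ∀ t ∈ Q, t * t = 1)
    (h4 : ∃ t1 ∈ Q, ∃ t2 ∈ Q, t1 ≠ 1 ∧ t2 ≠ 1 ∧ t1 ≠ t2) {Xr : Subgroup G}
    (hX : Xr = (Y1 hn).map ι ∨ Xr = (X12 hn).map ι) {y : G} (hyA : ∀ a ∈ (SpN.Kf.A0 hn F p).map ι, y * a = a * y)
    (hy : ∀ t ∈ Q, ∃ t' ∈ Q, ∃ x ∈ Xr, y * t * y⁻¹ = t' * x)
    (hinj : ∀ t ∈ Q, y * t * y⁻¹ ∈ Xr → t = 1) (hne : ∃ t ∈ Q, y * t * y⁻¹ ∉ Q) : False := by
  have h2 : 2 ≤ n := by omega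
  obtain ⟨w, hw, hw1, hw2⟩ := exists_w (F := F) hp hp2 hpF
  set Y := YY hn ι p with hY
  set K₁ := (jj hn h2 ι p).range with hK1
  have hyY : y ∈ Y := (mem_YY hn).2 fun a ha => (hyA _ ⟨a, ha, rfl⟩).symm
  -- `Q ≤ Y`
  have hQY : Q ≤ Y := by
    intro q hq
    rw [hY, mem_YY]
    intro a _
    exact mem_centralizer_iff.1 (hQ.le hq) _ ⟨a, rfl⟩
  obtain ⟨t1, ht1, t2, ht2, ht10, ht20, ht12⟩ := h4
  have ho : ∀ t ∈ Q, t ≠ 1 → orderOf t = 2 := fun t ht h => orderOf_eq_prime (by rw [pow_two, hsq t ht]) h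
  have hZ2 : center (Sy 2 F) = ⊥ := center_Sy (by omega)
  have hsimp : IsSimpleGroup (PSp 2 F) := by
    have : Fintype F := Fintype.ofFinite F
    rw [Nat.card_eq_fintype_card] at hF
    exact Cfsg.Agent.S0270.result 2 le_rfl (fun _ => by omega)
  let e : ↥K₁ ≃* PSp 2 F := (MonoidHom.ofInjective (jj_injective hn h2 hι (p := p))).symm.trans (eSy hZ2)
  have hs1 : IsSimpleGroup ↥K₁ := e.isSimpleGroup
  -- a non-abelian 2-subgroup
  have hna : ∃ P ≤ K₁, IsPGroup 2 ↥P ∧ ∃ a ∈ P, ∃ b ∈ P, a * b ≠ b * a := by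
    refine ⟨(Up 2 F).map (jj hn h2 ι p), map_le_range _ _, isPGroup_Up.map _, _,
      ⟨_, sx_mem_Up' (n := 2) (F := F) (i := 0) (j := 1) (by decide) 1, rfl⟩, _, ⟨_, sy_mem_Up 1 1, rfl⟩, ?_⟩
    intro h
    rw [← map_mul, ← map_mul] at h
    have h5 := jj_injective hn h2 hι h
    have h6 := congrArg (fun A => rho 2 F A (be 2 F (Sum.inr 1)) (Sum.inl 0)) h5
    simp only [map_mul, Equiv.Perm.mul_apply] at h6
    rw [rho_sx (dj_lr (by decide)), rho_sy, rho_sy, rho_sx (dj_lr (by decide))] at h6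
    simp [be_apply] at h6
  have hcom : _root_.commutator ↥K₁ = ⊤ := by
    rcases (inferInstance : (_root_.commutator ↥K₁).Normal).eq_bot_or_eq_top with h5 | h5
    · exfalso
      obtain ⟨P, hP, -, a, ha, b, hb, hab⟩ := hna
      apply hab
      have h6 : ⁅(⟨a, hP ha⟩ : ↥K₁), ⟨b, hP hb⟩⁆ ∈ _root_.commutator ↥K₁ :=
        commutator_mem_commutator (mem_top _) (mem_top _)
      rw [h5, mem_bot, commutatorElement_eq_one_iff_mul_comm] at h6
      exact congrArg Subtype.val h6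
    · exact h5
  have hperf : ⁅K₁, K₁⁆ = K₁ := by
    have h5 := congrArg (Subgroup.map K₁.subtype) hcom
    rw [_root_.commutator_def, Subgroup.map_commutator, ← MonoidHom.range_eq_map, Subgroup.range_subtype] at h5
    exact h5
  have D : DesI ι.range Q Y K₁ := by
    refine ⟨ht, hQ, ⟨t1, ht1, ho t1 ht1 ht10⟩, hQY, ?_, ?_, ?_⟩
    · rintro _ ⟨B, rfl⟩
      exact ⟨_, rfl⟩
    · rintro g hN ⟨k, hk⟩ hc
      refine two hn h2 hι hw hw1 hw2 g.2 hN (k := k) (congrArg Subtype.val hk) fun B => ?_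
      exact congrArg Subtype.val (mem_centralizer_iff.1 hc _ ⟨B, rfl⟩)
    · intro g hN
      have h5 : K₁.map (MulAut.conj g).toMonoidHom ≤ K₁ := by
        have h6 : K₁.map (MulAut.conj g).toMonoidHom ≤ (ι.range).subgroupOf Y := by
          rintro _ ⟨x, ⟨B, rfl⟩, rfl⟩
          rw [mem_subgroupOf]
          exact (mem_normalizer_iff.1 hN _).1 ⟨_, rfl⟩
        conv_lhs => rw [← hperf]
        rw [Subgroup.map_commutator]
        exact (commutator_mono h6 h6).trans (comm_le hn h2 hι hw hw1 hw2)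
      have h6 : K₁.map (MulAut.conj g).toMonoidHom = K₁ := by
        apply Subgroup.eq_of_le_of_card_ge h5
        rw [← Nat.card_congr (K₁.equivMapOfInjective (MulAut.conj g).toMonoidHom (MulAut.conj g).injective).toEquiv]
      rw [mem_normalizer_iff]
      intro x
      constructor
      · intro hx
        rw [← h6]
        exact ⟨x, hx, rfl⟩
      · intro hx
        rw [← h6] at hx
        obtain ⟨z, hz, e⟩ := hx
        have e' : g * z * g⁻¹ = g * x * g⁻¹ := e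
        have e'' : z = x := mul_left_cancel (mul_right_cancel e')
        rwa [← e'']
  have hsch : Cfsg.Agent.Schreier.Basic.Sch ↥K₁ :=
    Cfsg.Agent.Schreier.Basic.Sch.of_equiv e.symm
      (Cfsg.Agent.Schreier.ClassPSp.sch (m := 2) (F := F) le_rfl (fun _ => by omega))
  have hQab : ∀ x ∈ Q, ∀ y ∈ Q, x * y = y * x := by
    intro x hx y hy
    have h5 := hsq _ (Q.mul_mem hx hy)
    calc x * y = (x * y)⁻¹ := eq_inv_of_mul_eq_one_left h5
      _ = y⁻¹ * x⁻¹ := mul_inv_rev _ _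
      _ = y * x := by
        rw [← eq_inv_of_mul_eq_one_left (hsq x hx), ← eq_inv_of_mul_eq_one_left (hsq y hy)]
  have env := D.env hsch hQab hna ⟨t1, ht1, t2, ht2, ho t1 ht1 ht10, ho t2 ht2 ht20, ht12⟩
  -- the Sylow subgroup
  have hU : IsSyl ((Up 2 F).map (jj hn h2 ι p)) K₁ := by
    refine ⟨isPGroup_Up.map _, map_le_range _ _, ?_⟩
    intro P hP hle hPK
    have h5 : IsPGroup 2 ↥(P.comap (jj hn h2 ι p)) := by
      apply hP.comap_of_injective _ (jj_injective hn h2 hι)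
    have h6 := Up_max h5 (fun u hu => hle ⟨u, hu, rfl⟩)
    intro x hx
    obtain ⟨B, rfl⟩ := hPK hx
    exact ⟨B, h6 hx, rfl⟩
  -- the root group
  have hform : ∀ x ∈ Xr, ∃ a b, x = ι (zz hn a b) := by
    rcases hX with rfl | rfl
    · rintro _ ⟨A, hA, rfl⟩
      obtain ⟨b, rfl⟩ := (mem_Y1 hn).1 hA
      exact ⟨0, b, rfl⟩
    · rintro _ ⟨A, hA, rfl⟩
      obtain ⟨a, rfl⟩ := (mem_X12 hn).1 hA
      exact ⟨a, 0, rfl⟩
  have hXY : ∀ x ∈ Xr, ∃ B : Sy 2 F, x = ι (emb h2 B) := by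
    intro x hx
    obtain ⟨a, b, rfl⟩ := hform x hx
    obtain ⟨B, hB⟩ := zz_emb hn h2 a b
    exact ⟨B, by rw [hB]⟩
  have hXK : Xr.subgroupOf Y ≤ K₁ := by
    intro x hx
    obtain ⟨B, hB⟩ := hXY _ (mem_subgroupOf.1 hx)
    exact ⟨B, Subtype.ext hB.symm⟩
  refine EndB.end6 hF hcom e env D.isSyl (X := Xr.subgroupOf Y) (y := ⟨y, hyY⟩) ?_ ?_ hU hXK ?_ ?_ ?_ ?_ ?_
  · intro t ht
    exact Subtype.ext (hsq _ (mem_subgroupOf.1 ht))
  · exact ⟨⟨t1, hQY ht1⟩, mem_subgroupOf.2 ht1, ⟨t2, hQY ht2⟩, mem_subgroupOf.2 ht2,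
      fun h => ht10 (congrArg Subtype.val h), fun h => ht20 (congrArg Subtype.val h),
      fun h => ht12 (congrArg Subtype.val h)⟩
  · rintro x hx _ ⟨B, hB, rfl⟩
    obtain ⟨a, b, hab⟩ := hform _ (mem_subgroupOf.1 hx)
    apply Subtype.ext
    show (x : G) * ι (emb h2 B) = ι (emb h2 B) * x
    rw [hab, ← map_mul, ← map_mul, (comm_Z hn (emb_Up h2 hB) a b).eq]
  · intro x hx
    have hx' := mem_subgroupOf.1 hx
    rcases hX with rfl | rfl
    · obtain ⟨A, hA, hA'⟩ := hx'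
      obtain ⟨b, rfl⟩ := (mem_Y1 hn).1 hA
      obtain ⟨B, hB, hB'⟩ := tor_long hn h2 hw1
      refine ⟨jj hn h2 ι p B, ⟨B, rfl⟩, ?_, fun k hk => hB' k ?_⟩
      · apply Subtype.ext
        show ι (emb h2 B) * (x : G) = x * ι (emb h2 B)
        have e1 : (x : G) = ι (zz hn 0 b) := hA'.symm
        rw [e1, ← map_mul, ← map_mul, (hB b).eq]
      · apply jj_injective hn h2 hι (p := p)
        rw [map_pow, hk, map_one]
    · obtain ⟨A, hA, hA'⟩ := hx'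
      obtain ⟨a, rfl⟩ := (mem_X12 hn).1 hA
      obtain ⟨B, hB, hB'⟩ := tor_short hn h2 hw1
      refine ⟨jj hn h2 ι p B, ⟨B, rfl⟩, ?_, fun k hk => hB' k ?_⟩
      · apply Subtype.ext
        show ι (emb h2 B) * (x : G) = x * ι (emb h2 B)
        have e1 : (x : G) = ι (zz hn a 0) := hA'.symm
        rw [e1, ← map_mul, ← map_mul, (hB a).eq]
      · apply jj_injective hn h2 hι (p := p)
        rw [map_pow, hk, map_one]
  · intro t ht
    obtain ⟨t', ht', x, hx, e1⟩ := hy t (mem_subgroupOf.1 ht)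
    obtain ⟨B, hB⟩ := hXY x hx
    refine ⟨⟨t', hQY ht'⟩, mem_subgroupOf.2 ht', ⟨x, ?_⟩, mem_subgroupOf.2 hx, Subtype.ext e1⟩
    rw [hB]
    exact emb_mem hn h2 ι p B
  · intro t ht h
    exact Subtype.ext (hinj _ (mem_subgroupOf.1 ht) (mem_subgroupOf.1 h))
  · obtain ⟨t, ht, h⟩ := hne
    exact ⟨⟨t, hQY ht⟩, mem_subgroupOf.2 ht, fun h' => h (mem_subgroupOf.1 h')⟩

end Cfsg.Agent.OddHalf.D4.SpC.Fin
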